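import Groth.Agent.ColSS.Augment

/-! # Double complexes approximating an exact one column by column -/

set_option autoImplicit false
set_option linter.style.haveILetI false

noncomputable section

universe u

open CategoryTheory CategoryTheory.Limits
open scoped ZeroObject

namespace Groth.Agent.ColSS

variable {C C' C'' : Cols.{u}}

/-- a map of families induced by maps of columns -/
def mapPre (f : ∀ p, C.K p ⟶ C'.K p) : C.Pre →+ C'.Pre :=
  AddMonoidHom.mk' (fun s p q => (f p).f q (s p q)) fun _ _ => funext fun _ => funext fun _ => map_add _ _ _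

lemma mapPre_apply (f : ∀ p, C.K p ⟶ C'.K p) (s : C.Pre) (p : ℕ) (q : ℤ) :
    mapPre f s p q = (f p).f q (s p q) := rfl

lemma mapPre_D (f : ∀ p, C.K p ⟶ C'.K p) (hf : ∀ p, f p ≫ C'.dh p = C.dh p ≫ f (p + 1)) (s : C.Pre) :
    mapPre f (C.D s) = C'.D (mapPre f s) := by
  funext p q
  have hd : ∀ (p : ℕ) (q q' : ℤ) (x : (C.K p).X q), (f p).f q' ((C.K p).d q q' x) = (C'.K p).d q q' ((f p).f q x) :=
    fun p q q' x => (ConcreteCategory.congr_hom ((f p).comm q q') x).symm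
  rcases p with _ | p
  · rw [mapPre_apply, Cols.D_zero, Cols.D_zero, hd, mapPre_apply]
  · rw [mapPre_apply, Cols.D_succ, Cols.D_succ, map_add, Units.smul_def, Units.smul_def, map_zsmul, hd,
      mapPre_apply, mapPre_apply]
    refine congrArg (· + _) ?_
    exact (ConcreteCategory.congr_hom (congrArg (fun m => HomologicalComplex.Hom.f m q) (hf p)) (s p q)).symm

lemma mapPre_mem (f : ∀ p, C.K p ⟶ C'.K p) {j : EInt} {n : ℤ} {s : C.Pre} (hs : s ∈ C.sub j n) :
    mapPre f s ∈ C'.sub j n := fun p q h => by rw [mapPre_apply, hs p q h, map_zero]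

lemma mapPre_single (f : ∀ p, C.K p ⟶ C'.K p) (p : ℕ) (q : ℤ) (x : (C.K p).X q) :
    mapPre f (C.single p q x) = C'.single p q ((f p).f q x) := by
  funext p' q'
  rw [mapPre_apply]
  by_cases h : p' = p ∧ q' = q
  · obtain ⟨rfl, rfl⟩ := h
    rw [C.single_same, C'.single_same]
  · rw [C.single_of_ne x (by tauto), C'.single_of_ne _ (by tauto), map_zero]

/-- families vanishing before a column -/
def Low (C : Cols.{u}) (k : ℕ) : AddSubgroup C.Pre where
  carrier := {s | ∀ p q, p < k → s p q = 0}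
  add_mem' ha hb p q h := by rw [Pi.add_apply, Pi.add_apply, ha p q h, hb p q h, add_zero]
  zero_mem' _ _ _ := rfl
  neg_mem' ha p q h := by rw [Pi.neg_apply, Pi.neg_apply, ha p q h, neg_zero]

lemma mapPre_low (f : ∀ p, C.K p ⟶ C'.K p) {k : ℕ} {s : C.Pre} (hs : s ∈ Low C k) : mapPre f s ∈ Low C' k :=
  fun p q h => by rw [mapPre_apply, hs p q h, map_zero]

lemma single_low {k p : ℕ} (h : k ≤ p) (q : ℤ) (x : (C.K p).X q) : C.single p q x ∈ Low C k :=
  fun p' q' h' => C.single_of_ne x (Or.inl (by omega))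

lemma D_low {k : ℕ} {s : C.Pre} (hs : s ∈ Low C k) : C.D s ∈ Low C k := fun p q h => by
  rcases p with _ | p
  · rw [Cols.D_zero, hs 0 (q - 1) h, map_zero]
  · rw [Cols.D_succ, hs p q (by omega), hs (p + 1) (q - 1) h, map_zero, map_zero, smul_zero, add_zero]

lemma D_at_low {k : ℕ} {s : C.Pre} (hs : s ∈ Low C k) (q₀ q₁ : ℤ) (h : q₀ + 1 = q₁) :
    C.D s k q₁ = (-(k : ℤ)).negOnePow • (C.K k).d q₀ q₁ (s k q₀) := by
  obtain rfl : q₀ = q₁ - 1 := by omega
  rcases k with _ | k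
  · rw [Cols.D_zero]
    simp
  · rw [Cols.D_succ, hs k q₁ (by omega), map_zero, zero_add]

/-- a system of double complexes approximating another one -/
structure Approx (ι : Type u) (CZ : Cols.{u}) where
  /-- the double complexes -/
  C : ι → Cols.{u}
  /-- the refinement relation -/
  le : ι → ι → Prop
  le_refl : ∀ i, le i i
  le_trans : ∀ {i j k}, le i j → le j k → le i k
  /-- the restrictions -/
  res : ∀ {i j}, le i j → ∀ p, (C i).K p ⟶ (C j).K p
  res_dh : ∀ {i j} (h : le i j) p, res h p ≫ (C j).dh p = (C i).dh p ≫ res h (p + 1)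
  res_res : ∀ {i j k} (h : le i j) (h' : le j k) p, res h p ≫ res h' p = res (le_trans h h') p
  /-- the maps to the limit -/
  r : ∀ i p, (C i).K p ⟶ CZ.K p
  r_dh : ∀ i p, r i p ≫ CZ.dh p = (C i).dh p ≫ r i (p + 1)
  res_r : ∀ {i j} (h : le i j) p, res h p ≫ r j p = r i p
  lift : ∀ (i : ι) (p : ℕ) (q₀ q₁ q₂ : ℤ), q₀ + 1 = q₁ → q₁ + 1 = q₂ → ∀ z : (CZ.K p).X q₁,
    (CZ.K p).d q₁ q₂ z = 0 → ∃ (j : ι) (_ : le i j) (w : ((C j).K p).X q₁) (e : (CZ.K p).X q₀),
      ((C j).K p).d q₁ q₂ w = 0 ∧ (r j p).f q₁ w + (CZ.K p).d q₀ q₁ e = z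
  primitive : ∀ (i : ι) (p : ℕ) (q₀ q₁ q₂ : ℤ), q₀ + 1 = q₁ → q₁ + 1 = q₂ → ∀ c : ((C i).K p).X q₁,
    ((C i).K p).d q₁ q₂ c = 0 → ∀ e : (CZ.K p).X q₀, (r i p).f q₁ c = (CZ.K p).d q₀ q₁ e →
      ∃ (j : ι) (h : le i j) (t : ((C j).K p).X q₀), (res h p).f q₁ c = ((C j).K p).d q₀ q₁ t

namespace Approx

variable {ι : Type u} {CZ : Cols.{u}} (A : Approx ι CZ)

lemma mapPre_res_res {i j k : ι} (h : A.le i j) (h' : A.le j k) (s : (A.C i).Pre) :
    mapPre (A.res h') (mapPre (A.res h) s) = mapPre (A.res (A.le_trans h h')) s := by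
  funext p q
  exact ConcreteCategory.congr_hom (congrArg (fun m => HomologicalComplex.Hom.f m q) (A.res_res h h' p)) (s p q)

lemma mapPre_res_r {i j : ι} (h : A.le i j) (s : (A.C i).Pre) :
    mapPre (A.r j) (mapPre (A.res h) s) = mapPre (A.r i) s := by
  funext p q
  exact ConcreteCategory.congr_hom (congrArg (fun m => HomologicalComplex.Hom.f m q) (A.res_r h p)) (s p q)

lemma exists_boundary_aux (n : ℤ) : ∀ (m k : ℕ), n < (k + m : ℕ) → ∀ (i : ι) (c : (A.C i).Pre) (τ : CZ.Pre),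
    c ∈ (A.C i).sub ⊤ n → c ∈ Low (A.C i) k → (A.C i).D c = 0 → τ ∈ CZ.sub ⊤ (n - 1) → τ ∈ Low CZ k →
    mapPre (A.r i) c = CZ.D τ →
    ∃ (j : ι) (h : A.le i j) (t : (A.C j).Pre), t ∈ (A.C j).sub ⊤ (n - 1) ∧ mapPre (A.res h) c = (A.C j).D t
  | 0, k, hk, i, c, _, hc, hcl, _, _, _, _ => by
    refine ⟨i, A.le_refl i, 0, zero_mem _, ?_⟩
    have : c = 0 := funext fun p => funext fun q => by
      by_cases hp : p < k
      · exact hcl p q hp
      · by_cases hq : q < 0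
        · exact (A.C i).eq_zero_of_neg _ p hq
        · exact hc p q (Or.inl (by simp at hk; omega))
    rw [this, map_zero, map_zero]
  | m + 1, k, hk, i, c, τ, hc, hcl, hcD, hτ, hτl, hr => by
    obtain ⟨σ, hσ⟩ : ∃ σ, σ = (-(k : ℤ)).negOnePow := ⟨_, rfl⟩
    have hσσ : σ * σ = 1 := Int.units_mul_self σ
    obtain ⟨q, hq⟩ : ∃ q, q = n - (k : ℤ) := ⟨_, rfl⟩
    have hdc : ((A.C i).K k).d q (q + 1) (c k q) = 0 := by
      have := congrFun (congrFun hcD k) (q + 1)
      rw [D_at_low hcl q (q + 1) rfl, Units.smul_def] at this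
      have h2 := congrArg (fun x => (((-(k : ℤ)).negOnePow : ℤˣ) : ℤ) • x) this
      simpa [smul_smul, ← Units.val_mul, Int.units_mul_self] using h2
    have hτc : (A.r i k).f q (c k q) = (CZ.K k).d (q - 1) q (σ • τ k (q - 1)) := by
      have := congrFun (congrFun hr k) q
      rw [mapPre_apply, D_at_low hτl (q - 1) q (by omega)] at this
      rw [this, Units.smul_def, Units.smul_def, map_zsmul, hσ]
    obtain ⟨j, hij, t₀, ht₀⟩ := A.primitive i k (q - 1) q (q + 1) (by omega) rfl _ hdc _ hτc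
    let t₁ := (A.C j).single k (q - 1) (σ • t₀)
    have ht₁ : t₁ ∈ (A.C j).sub ⊤ (n - 1) := (A.C j).single_mem (by omega) _
    have ht₁l : t₁ ∈ Low (A.C j) k := single_low le_rfl _ _
    let c₁ := mapPre (A.res hij) c - (A.C j).D t₁
    have hc₁ : c₁ ∈ (A.C j).sub ⊤ n := sub_mem (mapPre_mem _ hc) (by simpa using (A.C j).D_mem ht₁)
    have hc₁l : c₁ ∈ Low (A.C j) k := sub_mem (mapPre_low _ hcl) (D_low ht₁l)
    have hc₁k : c₁ k q = 0 := by
      have et : t₁ k (q - 1) = σ • t₀ := (A.C j).single_same _ _ _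
      simp only [c₁]
      rw [Pi.sub_apply, Pi.sub_apply, mapPre_apply, D_at_low ht₁l (q - 1) q (by omega), et,
        ht₀, Units.smul_def, Units.smul_def, map_zsmul, smul_smul, ← Units.val_mul, ← hσ, hσσ, Units.val_one,
        one_smul, sub_self]
    have hc₁D : (A.C j).D c₁ = 0 := by
      rw [map_sub, (A.C j).D_D, sub_zero, ← mapPre_D _ (A.res_dh hij), hcD, map_zero]
    let τ₁ := τ - mapPre (A.r j) t₁
    have hτ₁ : τ₁ ∈ CZ.sub ⊤ (n - 1) := sub_mem hτ (mapPre_mem _ ht₁)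
    have hτ₁l : τ₁ ∈ Low CZ k := sub_mem hτl (mapPre_low _ ht₁l)
    have hr₁ : mapPre (A.r j) c₁ = CZ.D τ₁ := by
      rw [map_sub, map_sub, A.mapPre_res_r, hr, mapPre_D _ (A.r_dh j)]
    have hz : (CZ.K k).d (q - 1) q (τ₁ k (q - 1)) = 0 := by
      have := congrFun (congrFun hr₁ k) q
      rw [mapPre_apply, hc₁k, map_zero, D_at_low hτ₁l (q - 1) q (by omega), Units.smul_def] at this
      have h2 := congrArg (fun x => (((-(k : ℤ)).negOnePow : ℤˣ) : ℤ) • x) this
      simpa [smul_smul, ← Units.val_mul, Int.units_mul_self] using h2.symm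
    obtain ⟨l, hjl, w, e, hw, hwe⟩ := A.lift j k (q - 2) (q - 1) q (by omega) (by omega) _ hz
    let t₂ := (A.C l).single k (q - 1) w
    let e' := CZ.single k (q - 2) (σ • e)
    have ht₂ : t₂ ∈ (A.C l).sub ⊤ (n - 1) := (A.C l).single_mem (by omega) _
    have ht₂l : t₂ ∈ Low (A.C l) k := single_low le_rfl _ _
    have he' : e' ∈ CZ.sub ⊤ (n - 2) := CZ.single_mem (by omega) _
    have he'l : e' ∈ Low CZ k := single_low le_rfl _ _
    let c₂ := mapPre (A.res hjl) c₁ - (A.C l).D t₂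
    let τ₂ := τ₁ - mapPre (A.r l) t₂ - CZ.D e'
    have hc₂ : c₂ ∈ (A.C l).sub ⊤ n := sub_mem (mapPre_mem _ hc₁) (by simpa using (A.C l).D_mem ht₂)
    have hc₂l : c₂ ∈ Low (A.C l) (k + 1) := fun p q' hp => by
      have hlow : c₂ ∈ Low (A.C l) k := sub_mem (mapPre_low _ hc₁l) (D_low ht₂l)
      by_cases hp' : p < k
      · exact hlow p q' hp'
      · obtain rfl : p = k := by omega
        by_cases hq' : q' = q
        · subst hq'
          have et : t₂ p (q' - 1) = w := (A.C l).single_same _ _ _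
          simp only [c₂]
          rw [Pi.sub_apply, Pi.sub_apply, mapPre_apply, hc₁k, map_zero, zero_sub,
            D_at_low ht₂l (q' - 1) q' (by omega), et, hw, smul_zero, neg_zero]
        · exact hc₂ p q' (Or.inl (by omega))
    have hc₂D : (A.C l).D c₂ = 0 := by
      rw [map_sub, (A.C l).D_D, sub_zero, ← mapPre_D _ (A.res_dh hjl), hc₁D, map_zero]
    have hτ₂ : τ₂ ∈ CZ.sub ⊤ (n - 1) :=
      sub_mem (sub_mem hτ₁ (mapPre_mem _ ht₂)) (by have := CZ.D_mem he'; rwa [show n - 2 + 1 = n - 1 by omega] at this)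
    have hτ₂l : τ₂ ∈ Low CZ (k + 1) := fun p q' hp => by
      have hlow : τ₂ ∈ Low CZ k := sub_mem (sub_mem hτ₁l (mapPre_low _ ht₂l)) (D_low he'l)
      by_cases hp' : p < k
      · exact hlow p q' hp'
      · obtain rfl : p = k := by omega
        by_cases hq' : q' = q - 1
        · subst hq'
          have et : t₂ p (q - 1) = w := (A.C l).single_same _ _ _
          have ee : e' p (q - 2) = σ • e := CZ.single_same _ _ _
          simp only [τ₂]
          rw [Pi.sub_apply, Pi.sub_apply, Pi.sub_apply, Pi.sub_apply, D_at_low he'l (q - 2) (q - 1) (by omega),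
            mapPre_apply, et, ee, Units.smul_def, Units.smul_def, map_zsmul,
            smul_smul, ← Units.val_mul, ← hσ, hσσ, Units.val_one, one_smul, sub_sub, hwe, sub_self]
        · exact hτ₂ p q' (Or.inl (by omega))
    have hr₂ : mapPre (A.r l) c₂ = CZ.D τ₂ := by
      simp only [c₂, τ₂, τ₁, map_sub, A.mapPre_res_r, hr₁, mapPre_D _ (A.r_dh l), CZ.D_D, sub_zero]
    obtain ⟨j', hlj, t₃, ht₃, e₃⟩ := exists_boundary_aux n m (k + 1) (by omega) l c₂ τ₂ hc₂ hc₂l hc₂D hτ₂ hτ₂l hr₂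
    refine ⟨j', A.le_trans (A.le_trans hij hjl) hlj,
      mapPre (A.res (A.le_trans hjl hlj)) t₁ + mapPre (A.res hlj) t₂ + t₃,
      add_mem (add_mem (mapPre_mem _ ht₁) (mapPre_mem _ ht₂)) ht₃, ?_⟩
    rw [map_add, map_add, ← mapPre_D _ (A.res_dh _), ← mapPre_D _ (A.res_dh _), ← e₃]
    simp only [c₂, c₁, map_sub, A.mapPre_res_res]
    abel

/-- Cycles of the approximating complexes are locally boundaries if the approximated complex is exact. -/
theorem exists_boundary (hZ : ∀ (n : ℤ) (x : CZ.Pre), x ∈ CZ.sub ⊤ n → CZ.D x = 0 →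
      ∃ τ ∈ CZ.sub ⊤ (n - 1), CZ.D τ = x)
    (n : ℤ) (i : ι) (c : (A.C i).Pre) (hc : c ∈ (A.C i).sub ⊤ n) (hcD : (A.C i).D c = 0) :
    ∃ (j : ι) (h : A.le i j) (t : (A.C j).Pre), t ∈ (A.C j).sub ⊤ (n - 1) ∧ mapPre (A.res h) c = (A.C j).D t := by
  obtain ⟨τ, hτ, e⟩ := hZ n (mapPre (A.r i) c) (mapPre_mem _ hc) (by rw [← mapPre_D _ (A.r_dh i), hcD, map_zero])
  exact A.exists_boundary_aux n (n.toNat + 1) 0 (by omega) i c τ hc (fun p q hp => absurd hp (Nat.not_lt_zero p))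
    hcD hτ (fun p q hp => absurd hp (Nat.not_lt_zero p)) e.symm

end Approx

namespace Cols

variable (C : Cols.{u})

/-- exact rows give an exact total complex -/
theorem exists_primitive_of_rows (h0 : ∀ q, Function.Injective ((C.dh 0).f q))
    (hex : ∀ (p : ℕ) (q : ℤ) (x : (C.K (p + 1)).X q), (C.dh (p + 1)).f q x = 0 → ∃ w, (C.dh p).f q w = x)
    (n : ℤ) (x : C.Pre) (hx : x ∈ C.sub ⊤ n) (hxD : C.D x = 0) :
    ∃ τ ∈ C.sub ⊤ (n - 1), C.D τ = x := by
  let ε : (0 : CochainComplex AddCommGrpCat.{u} ℤ) ⟶ C.K 0 := 0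
  obtain ⟨y, t, ht, e⟩ := C.reduce ε
    (fun q z hz => ⟨0, (map_zero _).trans (h0 q (hz.trans (map_zero _).symm)).symm⟩) hex n n.toNat x hx
    (fun p q hp => by
      by_cases hq : q < 0
      · exact C.eq_zero_of_neg _ p hq
      · exact hx p q (Or.inl (by omega)))
    (fun p q => by rw [hxD]; rfl)
  refine ⟨t, ht, ?_⟩
  rw [e, show ε.f n y = 0 from rfl, map_zero, zero_add]

end Cols

end Groth.Agent.ColSS
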