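import Groth.Agent.ColSS.Augment
import Mathlib.Algebra.Homology.ShortComplex.Ab

/-! # Augmented double complexes with exact total complex -/

set_option autoImplicit false
set_option linter.style.haveILetI false

noncomputable section

universe u

open CategoryTheory CategoryTheory.Limits

namespace Groth.Agent.ColSS

namespace Cols

variable (C : Cols.{u}) (F₀ : CochainComplex AddCommGrpCat.{u} ℤ) (h₀ : F₀.IsStrictlyGE 0)
  (ε : F₀ ⟶ C.K 0) (hε : ε ≫ C.dh 0 = 0)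

/-- the columns of the augmented double complex -/
def preK : ℕ → CochainComplex AddCommGrpCat.{u} ℤ
  | 0 => F₀
  | p + 1 => C.K p

/-- the horizontal maps of the augmented double complex -/
def preDh : ∀ p, C.preK F₀ p ⟶ C.preK F₀ (p + 1)
  | 0 => ε
  | p + 1 => C.dh p

/-- the augmented double complex -/
def prepend : Cols.{u} where
  K := C.preK F₀
  ge
    | 0 => h₀
    | p + 1 => C.ge p
  dh := C.preDh F₀ ε
  dh_dh
    | 0 => hε
    | p + 1 => C.dh_dh p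

/-- the sign of a column -/
def sgn (p : ℕ) : ℤˣ := ((p : ℤ)).negOnePow

/-- shifting families into the augmented double complex -/
def shiftPre : C.Pre →+ (C.prepend F₀ h₀ ε hε).Pre :=
  AddMonoidHom.mk' (fun s p q => match p with
    | 0 => (0 : F₀.X q)
    | p + 1 => ((sgn p : ℤˣ) : ℤ) • (s p q : (C.K p).X q))
    fun a b => funext fun p => funext fun q => by
      rcases p with _ | p
      · exact (zero_add (0 : F₀.X q)).symm
      · exact smul_add (((sgn p : ℤˣ) : ℤ)) (a p q) (b p q)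

lemma shiftPre_zero (s : C.Pre) (q : ℤ) : C.shiftPre F₀ h₀ ε hε s 0 q = (0 : F₀.X q) := rfl

lemma shiftPre_succ (s : C.Pre) (p : ℕ) (q : ℤ) :
    C.shiftPre F₀ h₀ ε hε s (p + 1) q = (((sgn p : ℤˣ) : ℤ) • s p q : (C.K p).X q) := rfl

lemma shiftPre_D (s : C.Pre) : (C.prepend F₀ h₀ ε hε).D (C.shiftPre F₀ h₀ ε hε s) = -C.shiftPre F₀ h₀ ε hε (C.D s) := by
  funext p q
  rcases p with _ | p
  · rw [D_zero]
    exact (map_zero (F₀.d (q - 1) q).hom).trans neg_zero.symm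
  · rw [D_succ]
    rcases p with _ | p
    · show ε.f q 0 + (-((1 : ℕ) : ℤ)).negOnePow • (C.K 0).d (q - 1) q (((sgn 0 : ℤˣ) : ℤ) • s 0 (q - 1)) =
        -(((sgn 0 : ℤˣ) : ℤ) • C.D s 0 q)
      rw [D_zero, map_zero, zero_add, map_zsmul, Units.smul_def, smul_smul, ← neg_smul]
      simp [sgn]
    · show (C.dh p).f q (((sgn p : ℤˣ) : ℤ) • s p q) +
          (-((p + 1 + 1 : ℕ) : ℤ)).negOnePow • (C.K (p + 1)).d (q - 1) q (((sgn (p + 1) : ℤˣ) : ℤ) • s (p + 1) (q - 1)) =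
        -(((sgn (p + 1) : ℤˣ) : ℤ) • C.D s (p + 1) q)
      rw [D_succ, map_zsmul, map_zsmul, smul_add, neg_add, Units.smul_def, Units.smul_def, smul_smul, smul_smul,
        ← neg_smul, ← neg_smul]
      have e1 : ((sgn (p + 1) : ℤˣ) : ℤ) = -((sgn p : ℤˣ) : ℤ) := by
        simp [sgn, Nat.cast_succ, Int.negOnePow_succ]
      have e2 : (((-((p + 1 + 1 : ℕ) : ℤ)).negOnePow : ℤˣ) : ℤ) = -(((-((p + 1 : ℕ) : ℤ)).negOnePow : ℤˣ) : ℤ) := by
        rw [Int.negOnePow_neg, Int.negOnePow_neg, Nat.cast_succ, Int.negOnePow_succ]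
        simp
      rw [e2, e1]
      simp only [neg_neg, mul_neg, neg_mul]
      ring_nf

lemma shiftPre_mem {n : ℤ} {s : C.Pre} (hs : s ∈ C.sub ⊤ n) :
    C.shiftPre F₀ h₀ ε hε s ∈ (C.prepend F₀ h₀ ε hε).sub ⊤ (n + 1) := fun p q h => by
  rcases p with _ | p
  · rfl
  · rw [shiftPre_succ]
    exact (congrArg _ (hs p q (h.imp (fun h h' => h (by push_cast; omega)) (fun h => by simp at h)))).trans (smul_zero _)

/-- the family of an element of the augmentation -/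
def augPre (q : ℤ) : F₀.X q →+ (C.prepend F₀ h₀ ε hε).Pre := (C.prepend F₀ h₀ ε hε).single 0 q

lemma augPre_same (q : ℤ) (y : F₀.X q) : C.augPre F₀ h₀ ε hε q y 0 q = y :=
  (C.prepend F₀ h₀ ε hε).single_same 0 q y

lemma augPre_of_ne (q : ℤ) (y : F₀.X q) {p' : ℕ} {q' : ℤ} (h : p' ≠ 0 ∨ q' ≠ q) :
    C.augPre F₀ h₀ ε hε q y p' q' = 0 :=
  (C.prepend F₀ h₀ ε hε).single_of_ne (p := 0) y h

lemma D_augPre (q : ℤ) (y : F₀.X q) : (C.prepend F₀ h₀ ε hε).D (C.augPre F₀ h₀ ε hε q y) =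
    C.augPre F₀ h₀ ε hε (q + 1) (F₀.d q (q + 1) y) + C.shiftPre F₀ h₀ ε hε (C.single 0 q (ε.f q y)) := by
  funext p q'
  rcases p with _ | p
  · rw [Pi.add_apply, Pi.add_apply, shiftPre_zero, D_zero]
    refine Eq.trans ?_ (add_zero _).symm
    by_cases h : q' = q + 1
    · subst h
      obtain ⟨m, hm⟩ : ∃ m, m = q + 1 - 1 := ⟨_, rfl⟩
      rw [← hm]
      obtain rfl : m = q := by omega
      rw [augPre_same, augPre_same]
      rfl
    · rw [augPre_of_ne _ _ _ _ _ _ _ (Or.inr (by omega)), augPre_of_ne _ _ _ _ _ _ _ (Or.inr h), map_zero]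
  · rw [Pi.add_apply, Pi.add_apply, D_succ, augPre_of_ne _ _ _ _ _ _ _ (p' := p + 1) (Or.inl (by omega)),
      map_zero, smul_zero, add_zero, augPre_of_ne _ _ _ _ _ _ _ (p' := p + 1) (Or.inl (by omega)), shiftPre_succ]
    refine Eq.trans ?_ (zero_add _).symm
    by_cases h : p = 0 ∧ q' = q
    · obtain ⟨rfl, rfl⟩ := h
      rw [augPre_same]
      show ε.f q' y = ((sgn 0 : ℤˣ) : ℤ) • C.single 0 q' (ε.f q' y) 0 q'
      rw [single_same]
      simp [sgn]
    · rw [augPre_of_ne _ _ _ _ _ _ _ (p' := p) (by tauto), map_zero, single_of_ne _ _ (by tauto), smul_zero]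
      rfl

/-- Nonnegative augmentation with exact augmented total complex computes the same homology. -/
theorem nonempty_tot_iso_of_exact (hex : ∀ (n : ℤ) (x : (C.prepend F₀ h₀ ε hε).Pre),
      x ∈ (C.prepend F₀ h₀ ε hε).sub ⊤ n → (C.prepend F₀ h₀ ε hε).D x = 0 →
      ∃ τ ∈ (C.prepend F₀ h₀ ε hε).sub ⊤ (n - 1), (C.prepend F₀ h₀ ε hε).D τ = x)
    (n : ℤ) : Nonempty (C.tot.homology n ≅ F₀.homology n) := by
  let P := C.prepend F₀ h₀ ε hε
  let sh := C.shiftPre F₀ h₀ ε hε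
  have hsplit : ∀ (m : ℤ) (τ : P.Pre), τ ∈ P.sub ⊤ m →
      ∃ t ∈ C.sub ⊤ (m - 1), τ = C.augPre F₀ h₀ ε hε m (τ 0 m) + sh t := fun m τ hτ => by
    refine ⟨fun p q => ((sgn p : ℤˣ) : ℤ) • (τ (p + 1) q : (C.K p).X q), fun p q h => ?_, ?_⟩
    · refine (congrArg (((sgn p : ℤˣ) : ℤ) • ·) (hτ (p + 1) q (h.imp (fun h h' => h (by push_cast at h'; omega))
        (fun h => by simp at h)) : (τ (p + 1) q : (C.K p).X q) = 0)).trans (smul_zero _)
    · funext p q
      rcases p with _ | p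
      · rw [Pi.add_apply, Pi.add_apply]
        refine Eq.trans ?_ (congrArg (_ + ·) (C.shiftPre_zero F₀ h₀ ε hε _ q)).symm
        refine Eq.trans ?_ (add_zero _).symm
        by_cases hq : q = m
        · subst hq
          rw [augPre_same]
        · rw [augPre_of_ne _ _ _ _ _ _ _ (Or.inr hq)]
          exact hτ 0 q (Or.inl (by simpa using hq))
      · rw [Pi.add_apply, Pi.add_apply, augPre_of_ne _ _ _ _ _ _ _ (p' := p + 1) (Or.inl (by omega)), zero_add]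
        show τ (p + 1) q = ((sgn p : ℤˣ) : ℤ) • ((sgn p : ℤˣ) : ℤ) • (τ (p + 1) q : (C.K p).X q)
        rw [smul_smul, ← Units.val_mul, Int.units_mul_self, Units.val_one, one_smul]
  have hsh : ∀ a b : C.Pre, sh a = sh b → a = b := fun a b h => funext fun p => funext fun q => by
    have := congrArg (fun z : (C.K p).X q => ((sgn p : ℤˣ) : ℤ) • z) (congrFun (congrFun h (p + 1)) q)
    simpa [sh, shiftPre_succ, smul_smul, ← Units.val_mul, Int.units_mul_self] using this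
  have h00 : ∀ (m : ℤ) (y : F₀.X m) (s : C.Pre), (C.augPre F₀ h₀ ε hε m y + sh s) 0 m = y := fun m y s => by
    rw [Pi.add_apply, Pi.add_apply]
    exact (congrArg (_ + ·) (C.shiftPre_zero F₀ h₀ ε hε s m)).trans
      ((add_zero _).trans ((C.prepend F₀ h₀ ε hε).single_same 0 m y))
  have hval : ∀ (m : ℤ) (y : F₀.X m) (y' : F₀.X m) (s s' : C.Pre),
      C.augPre F₀ h₀ ε hε m y + sh s = C.augPre F₀ h₀ ε hε m y' + sh s' → y = y' ∧ s = s' := fun m y y' s s' h => by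
    have hy : y = y' := (h00 m y s).symm.trans ((congrFun (congrFun h 0) m).trans (h00 m y' s'))
    subst hy
    exact ⟨rfl, hsh _ _ (add_left_cancel h)⟩
  obtain ⟨a, ha⟩ : ∃ a, a = n - 1 := ⟨_, rfl⟩
  obtain ⟨b, hb⟩ : ∃ b, b = n + 1 := ⟨_, rfl⟩
  obtain rfl : n = a + 1 := by omega
  obtain rfl : b = a + 1 + 1 := hb
  let S₀ := F₀.sc' a (a + 1) (a + 1 + 1)
  let T := C.tot.sc' a (a + 1) (a + 1 + 1)
  have hTg : ∀ x : C.sub ⊤ (a + 1), Subtype.val (T.g x) = C.D x.1 := fun x => C.fil_d ⊤ (a + 1) x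
  have hTf : ∀ x : C.sub ⊤ a, Subtype.val (T.f x) = C.D x.1 := fun x => C.fil_d ⊤ a x
  have hmem : ∀ y : S₀.g.hom.ker, C.D (C.single 0 (a + 1) (ε.f (a + 1) y.1)) = 0 := fun y => by
    have hdy : F₀.d (a + 1) (a + 1 + 1) y.1 = 0 := y.2
    rw [D_single_zero_eq _ _ (C.dh_ε ε hε (a + 1) y.1)]
    have : (C.K 0).d (a + 1) (a + 1 + 1) (ε.f (a + 1) y.1) = 0 :=
      (ConcreteCategory.congr_hom (ε.comm (a + 1) (a + 1 + 1)) y.1).trans ((congrArg (fun z => ε.f (a + 1 + 1) z) hdy).trans (map_zero (ε.f (a + 1 + 1)).hom))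
    rw [this, map_zero]
  let φ : S₀.g.hom.ker →+ T.g.hom.ker := AddMonoidHom.mk'
    (fun y => ⟨(⟨C.single 0 (a + 1) (ε.f (a + 1) y.1), C.single_mem (by simp) _⟩ : C.sub ⊤ (a + 1)),
      Subtype.ext ((hTg _).trans (hmem y))⟩)
    fun y y' => Subtype.ext (Subtype.ext (by
      exact map_add ((C.single 0 (a + 1)).comp (ε.f (a + 1)).hom) y.1 y'.1))
  let ψ := (QuotientAddGroup.mk' T.abToCycles.range).comp φ
  have hsurj : Function.Surjective ψ := fun c => by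
    obtain ⟨⟨⟨s, hs⟩, hsc⟩, rfl⟩ := QuotientAddGroup.mk'_surjective _ c
    have hDs : C.D s = 0 := (hTg ⟨s, hs⟩).symm.trans (congrArg Subtype.val hsc)
    obtain ⟨τ, hτ, e⟩ := hex (a + 1 + 1) (sh s) (C.shiftPre_mem F₀ h₀ ε hε hs)
      (by rw [C.shiftPre_D, hDs, map_zero, neg_zero])
    rw [show a + 1 + 1 - 1 = a + 1 by omega] at hτ
    obtain ⟨t, ht, hτe⟩ := hsplit (a + 1) τ hτ
    rw [show a + 1 - 1 = a by omega] at ht
    rw [hτe, map_add, C.D_augPre, C.shiftPre_D, add_assoc, ← sub_eq_add_neg, ← map_sub] at e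
    have h2 := hval (a + 1 + 1) _ 0 _ s (e.trans (by rw [map_zero, zero_add]))
    refine ⟨⟨τ 0 (a + 1), h2.1⟩, ?_⟩
    refine (QuotientAddGroup.mk'_eq_mk' _).2 ⟨_, ⟨-(⟨t, ht⟩ : C.sub ⊤ a), rfl⟩, ?_⟩
    refine Subtype.ext (Subtype.ext ?_)
    show C.single 0 (a + 1) (ε.f (a + 1) (τ 0 (a + 1))) + Subtype.val (T.f (-(⟨t, ht⟩ : C.sub ⊤ a))) = s
    rw [hTf, ← h2.2]
    show _ + C.D (-t) = _
    rw [map_neg, sub_eq_add_neg]
  have hker : ψ.ker = S₀.abToCycles.range := by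
    ext y
    rw [AddMonoidHom.mem_ker]
    constructor
    · intro hy
      obtain ⟨⟨t, ht⟩, hte⟩ := (QuotientAddGroup.eq_zero_iff _).1 hy
      have hte' : C.D t = C.single 0 (a + 1) (ε.f (a + 1) y.1) :=
        (hTf ⟨t, ht⟩).symm.trans (congrArg Subtype.val (congrArg Subtype.val hte))
      have hdy : F₀.d (a + 1) (a + 1 + 1) y.1 = 0 := y.2
      obtain ⟨τ, hτ, e⟩ := hex (a + 1) (C.augPre F₀ h₀ ε hε (a + 1) y.1 + sh t)
        (add_mem ((C.prepend F₀ h₀ ε hε).single_mem (by simp) _) (C.shiftPre_mem F₀ h₀ ε hε ht))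
        (by rw [map_add, C.D_augPre, hdy, map_zero, zero_add, C.shiftPre_D, hte', add_neg_cancel])
      rw [show a + 1 - 1 = a by omega] at hτ
      obtain ⟨t', ht', hτe⟩ := hsplit a τ hτ
      rw [hτe, map_add, C.D_augPre, C.shiftPre_D, add_assoc, ← sub_eq_add_neg, ← map_sub] at e
      exact ⟨τ 0 a, Subtype.ext (hval (a + 1) _ _ _ _ e).1⟩
    · rintro ⟨z, rfl⟩
      refine (QuotientAddGroup.eq_zero_iff _).2 ⟨(⟨C.single 0 a (ε.f a z), C.single_mem (by simp) _⟩ : C.sub ⊤ a), ?_⟩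
      refine Subtype.ext (Subtype.ext ((hTf _).trans ?_))
      show C.D (C.single 0 a (ε.f a z)) = C.single 0 (a + 1) (ε.f (a + 1) (F₀.d a (a + 1) z))
      rw [D_single_zero_eq _ _ (C.dh_ε ε hε a z)]
      exact congrArg _ (ConcreteCategory.congr_hom (ε.comm a (a + 1)) z)
  exact ⟨C.tot.homologyIsoSc' a (a + 1) (a + 1 + 1) (by simp) (by simp) ≪≫ T.abHomologyIso ≪≫
    (AddEquiv.toAddCommGrpIso ((QuotientAddGroup.quotientAddEquivOfEq hker.symm).trans
      (QuotientAddGroup.quotientKerEquivOfSurjective ψ hsurj))).symm ≪≫ S₀.abHomologyIso.symm ≪≫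
    (F₀.homologyIsoSc' a (a + 1) (a + 1 + 1) (by simp) (by simp)).symm⟩

end Cols

end Groth.Agent.ColSS
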