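import Groth.Agent.ColSS.Total
import Mathlib.Algebra.Homology.HomologySequence

/-! # Augmented double complexes with exact rows -/

set_option autoImplicit false
set_option linter.style.haveILetI false

noncomputable section

universe u

open CategoryTheory CategoryTheory.Limits

namespace Groth.Agent.ColSS

namespace Cols

variable (C : Cols.{u})

/-- the family concentrated in position `(p, q)` -/
def single (p : ℕ) (q : ℤ) : (C.K p).X q →+ C.Pre :=
  (AddMonoidHom.single (fun p => ∀ q : ℤ, (C.K p).X q) p).comp (AddMonoidHom.single (fun q => (C.K p).X q) q)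

lemma single_same (p : ℕ) (q : ℤ) (x : (C.K p).X q) : C.single p q x p q = x := by
  simp [single]

lemma single_of_ne {p p' : ℕ} {q q' : ℤ} (x : (C.K p).X q) (h : p' ≠ p ∨ q' ≠ q) :
    C.single p q x p' q' = 0 := by
  by_cases hp : p' = p
  · subst hp
    simp [single, Pi.single_eq_of_ne (h.resolve_left (not_not_intro rfl))]
  · simp [single, Pi.single_eq_of_ne hp]

lemma single_mem {p : ℕ} {q n : ℤ} (h : (p : ℤ) + q = n) (x : (C.K p).X q) : C.single p q x ∈ C.sub ⊤ n := by
  intro p' q' h'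
  refine C.single_of_ne x ?_
  rcases h' with h' | h'
  · by_contra hne
    simp only [not_or, not_not] at hne
    exact h' (by rw [hne.1, hne.2, h])
  · simp at h'

lemma D_zero (s : C.Pre) (q : ℤ) : C.D s 0 q = (C.K 0).d (q - 1) q (s 0 (q - 1)) := by
  simp [D_apply, hor, vert]

lemma D_succ (s : C.Pre) (p : ℕ) (q : ℤ) : C.D s (p + 1) q =
    (C.dh p).f q (s p q) + (-((p + 1 : ℕ) : ℤ)).negOnePow • (C.K (p + 1)).d (q - 1) q (s (p + 1) (q - 1)) := rfl

lemma D_single_zero_eq {n : ℤ} (x : (C.K 0).X n) (hx : (C.dh 0).f n x = 0) :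
    C.D (C.single 0 n x) = C.single 0 (n + 1) ((C.K 0).d n (n + 1) x) := by
  funext p q
  rcases p with _ | p
  · rw [D_zero]
    by_cases hq : q = n + 1
    · subst hq
      obtain ⟨m, hm⟩ : ∃ m, m = n + 1 - 1 := ⟨_, rfl⟩
      rw [← hm, C.single_same]
      obtain rfl : m = n := by omega
      rw [C.single_same]
    · rw [C.single_of_ne _ (Or.inr hq), C.single_of_ne _ (Or.inr (show q - 1 ≠ n by omega)), map_zero]
  · rw [D_succ, C.single_of_ne x (p' := p + 1) (Or.inl (by omega)), map_zero, smul_zero, add_zero,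
      C.single_of_ne _ (p' := p + 1) (Or.inl (by omega))]
    by_cases h : p = 0 ∧ q = n
    · obtain ⟨rfl, rfl⟩ := h
      rw [C.single_same, hx]
    · rw [C.single_of_ne x (by tauto), map_zero]

variable {F₀ : CochainComplex AddCommGrpCat.{u} ℤ} (ε : F₀ ⟶ C.K 0) (hε : ε ≫ C.dh 0 = 0)

include hε in
lemma dh_ε (n : ℤ) (y : F₀.X n) : (C.dh 0).f n (ε.f n y) = 0 :=
  ConcreteCategory.congr_hom (congrArg (fun m => HomologicalComplex.Hom.f m n) hε) y

/-- the map from the augmentation to the total complex -/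
def aug : F₀ ⟶ C.tot where
  f n := AddCommGrpCat.ofHom
    (AddMonoidHom.codRestrict ((C.single 0 n).comp (ε.f n).hom) (C.sub ⊤ n)
      fun y => C.single_mem (by simp) _)
  comm' n m hnm := by
    simp only [ComplexShape.up_Rel] at hnm
    subst hnm
    ext y : 2
    refine Subtype.ext ((C.fil_d ⊤ n _).trans ?_)
    refine (C.D_single_zero_eq _ (C.dh_ε ε hε n y)).trans (congrArg (C.single 0 (n + 1)) ?_)
    exact ConcreteCategory.congr_hom (ε.comm n (n + 1)) y

lemma aug_apply (n : ℤ) (y : F₀.X n) : Subtype.val ((C.aug ε hε).f n y) = C.single 0 n (ε.f n y) := rfl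

variable (h0 : ∀ (q : ℤ) (x : (C.K 0).X q), (C.dh 0).f q x = 0 → ∃ y, ε.f q y = x)
  (hex : ∀ (p : ℕ) (q : ℤ) (x : (C.K (p + 1)).X q), (C.dh (p + 1)).f q x = 0 → ∃ w, (C.dh p).f q w = x)

include h0 hex in
lemma reduce (n : ℤ) : ∀ (N : ℕ) (s : C.Pre), s ∈ C.sub ⊤ n → (∀ p q, N < p → s p q = 0) →
    (∀ p q, C.D s (p + 1) q = 0) → ∃ (y : F₀.X n) (t : C.Pre), t ∈ C.sub ⊤ (n - 1) ∧
      s = C.single 0 n (ε.f n y) + C.D t
  | 0, s, hs, hN, hD => by
    have hd : (C.dh 0).f n (s 0 n) = 0 := by
      have := hD 0 n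
      rwa [D_succ, hN 1 (n - 1) one_pos, map_zero, smul_zero, add_zero] at this
    obtain ⟨y, hy⟩ := h0 n _ hd
    refine ⟨y, 0, zero_mem _, ?_⟩
    rw [map_zero, add_zero, hy]
    funext p q
    by_cases h : p = 0 ∧ q = n
    · obtain ⟨rfl, rfl⟩ := h
      rw [C.single_same]
    · rw [C.single_of_ne _ (by tauto)]
      rcases p with _ | p
      · exact hs 0 q (Or.inl (fun h' => h ⟨rfl, by simpa using h'⟩))
      · exact hN _ q p.succ_pos
  | N + 1, s, hs, hN, hD => by
    obtain ⟨q₀, hq₀⟩ : ∃ q₀, q₀ = n - ((N + 1 : ℕ) : ℤ) := ⟨_, rfl⟩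
    have hd : (C.dh (N + 1)).f q₀ (s (N + 1) q₀) = 0 := by
      have := hD (N + 1) q₀
      rwa [D_succ, hN (N + 1 + 1) (q₀ - 1) (by omega), map_zero, smul_zero, add_zero] at this
    obtain ⟨w, hw⟩ := hex N q₀ _ hd
    have ht : C.single N q₀ w ∈ C.sub ⊤ (n - 1) := C.single_mem (by push_cast at hq₀; omega) w
    have hs' : s - C.D (C.single N q₀ w) ∈ C.sub ⊤ n :=
      sub_mem hs (by simpa using C.D_mem ht)
    have hN' : ∀ p q, N < p → (s - C.D (C.single N q₀ w)) p q = 0 := fun p q hp => by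
      rw [Pi.sub_apply, Pi.sub_apply]
      obtain ⟨p, rfl⟩ : ∃ p', p = p' + 1 := ⟨p - 1, by omega⟩
      rw [D_succ, C.single_of_ne w (p' := p + 1) (Or.inl (by omega)), map_zero, smul_zero, add_zero]
      by_cases h : p = N ∧ q = q₀
      · obtain ⟨rfl, rfl⟩ := h
        rw [C.single_same, hw, sub_self]
      · rw [C.single_of_ne w (by tauto), map_zero, sub_zero]
        by_cases hp' : p = N
        · subst hp'
          exact hs (p + 1) q (Or.inl fun h' => h ⟨rfl, by omega⟩)
        · exact hN (p + 1) q (by omega)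
    have hD' : ∀ p q, C.D (s - C.D (C.single N q₀ w)) (p + 1) q = 0 := fun p q => by
      rw [map_sub, C.D_D, sub_zero]
      exact hD p q
    obtain ⟨y, t, ht', e⟩ := reduce n N _ hs' hN' hD'
    exact ⟨y, t + C.single N q₀ w, add_mem ht' ht, by rw [map_add, ← add_assoc, ← e, sub_add_cancel]⟩

include h0 hex in
/-- The total complex of a double complex with exact augmented rows computes the augmentation. -/
theorem nonempty_homology_tot_iso (hinj : ∀ q, Function.Injective (ε.f q)) (hε : ε ≫ C.dh 0 = 0) (n : ℤ) :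
    Nonempty (C.tot.homology n ≅ F₀.homology n) := by
  let f := C.aug ε hε
  haveI : ∀ m, Mono (f.f m) := fun m => (AddCommGrpCat.mono_iff_injective _).2 fun a b hab => by
    have := congrFun (congrFun (congrArg Subtype.val hab) 0) m
    rw [C.aug_apply, C.aug_apply, C.single_same, C.single_same] at this
    exact hinj m this
  haveI : Mono f := HomologicalComplex.mono_of_mono_f _ this
  let S := ShortComplex.mk f (cokernel.π f) (cokernel.condition f)
  have hS : S.ShortExact :=
    { exact := ShortComplex.exact_of_g_is_cokernel _ (cokernelIsCokernel _) }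
  have hsurj : ∀ m, Function.Surjective ((cokernel.π f).f m) := fun m =>
    (AddCommGrpCat.epi_iff_surjective _).1 inferInstance
  have hker : ∀ (m : ℤ) (s : C.tot.X m), (cokernel.π f).f m s = 0 → ∃ y, f.f m y = s := fun m s hs =>
    (ShortComplex.ab_exact_iff _).1 ((HomologicalComplex.exact_iff_degreewise_exact S).1 hS.exact m) s hs
  have hz : ∀ m, IsZero (S.X₃.homology m) := fun m => by
    refine (S.X₃.exactAt_iff_isZero_homology m).1 ?_
    refine (S.X₃.exactAt_iff' (m - 1) m (m + 1) (by simp) (by simp)).2 ?_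
    refine (ShortComplex.ab_exact_iff _).2 fun x hx => ?_
    obtain ⟨s, rfl⟩ := hsurj m x
    have h1 : (cokernel.π f).f (m + 1) (C.tot.d m (m + 1) s) = 0 := by
      refine Eq.trans ?_ hx
      exact ConcreteCategory.congr_hom ((cokernel.π f).comm m (m + 1)).symm s
    obtain ⟨y, hy⟩ := hker _ _ h1
    have hD : ∀ p q, C.D (Subtype.val s) (p + 1) q = 0 := fun p q => by
      rw [← C.fil_d, ← hy]
      exact (congrFun (congrFun (C.aug_apply ε hε (m + 1) y) (p + 1)) q).trans (C.single_of_ne _ (Or.inl p.succ_ne_zero))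
    have hN : ∀ p q, m.toNat < p → Subtype.val s p q = 0 := fun p q hp => by
      by_cases hq : q < 0
      · exact C.eq_zero_of_neg _ p hq
      · exact Subtype.property s p q (Or.inl (by omega))
    obtain ⟨z, t, ht, e⟩ := C.reduce ε h0 hex m m.toNat (Subtype.val s) (Subtype.property s) hN hD
    refine ⟨(cokernel.π f).f (m - 1) ⟨t, ht⟩, ?_⟩
    refine (ConcreteCategory.congr_hom ((cokernel.π f).comm (m - 1) m) _).trans ?_
    obtain ⟨m', hm'⟩ : ∃ m', m = m' + 1 := ⟨m - 1, by omega⟩
    subst hm'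
    have hs : s = f.f _ z + C.tot.d (m' + 1 - 1) (m' + 1) ⟨t, ht⟩ := by
      refine Subtype.ext (e.trans ?_)
      have key : ∀ (a : ℤ) (ha : a + 1 = m' + 1) (v : C.sub ⊤ a),
          Subtype.val (C.tot.d a (m' + 1) v) = C.D v.1 := fun a ha v => by
        obtain rfl : a = m' := by omega
        exact C.fil_d ⊤ a v
      exact congrArg₂ (· + ·) rfl (key _ (by omega) ⟨t, ht⟩).symm
    show (cokernel.π f).f (m' + 1) _ = (cokernel.π f).f (m' + 1) s
    rw [hs, map_add]
    have : (cokernel.π f).f (m' + 1) (f.f _ z) = 0 :=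
      ConcreteCategory.congr_hom (congrArg (fun g => HomologicalComplex.Hom.f g (m' + 1)) (cokernel.condition f)) z
    rw [this, zero_add]
    rfl
  haveI : IsIso (HomologicalComplex.homologyMap f n) := by
    haveI : Mono (HomologicalComplex.homologyMap f n) :=
      (hS.homology_exact₁ (n - 1) n (by simp)).mono_g ((hz (n - 1)).eq_of_src _ _)
    haveI : Epi (HomologicalComplex.homologyMap f n) :=
      (hS.homology_exact₂ n).epi_f ((hz n).eq_of_tgt _ _)
    exact isIso_of_mono_of_epi _
  exact ⟨(asIso (HomologicalComplex.homologyMap f n)).symm⟩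

end Cols

end Groth.Agent.ColSS
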