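import Groth.Agent.GrothSS.Spectral

/-! # Spectral sequences starting at the first page from spectral objects -/

set_option autoImplicit false
set_option linter.style.haveILetI false

noncomputable section

universe v u

open CategoryTheory CategoryTheory.Limits ComposableArrows

namespace Groth.Agent.ColSS

/-- the data for a first page spectral sequence: the position `(p, q)` sits in `H^{p+q}(-p ≤ -p+1)` -/
@[simps!]
def coreE₁ : Abelian.SpectralObject.SpectralSequenceDataCore EInt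
    (fun r ↦ ComplexShape.up' (⟨r, 1 - r⟩ : ℤ × ℤ)) 1 where
  deg pq := pq.1 + pq.2
  i₀ r pq hr := (-pq.1 - r + 1 :)
  i₁ pq := (-pq.1 :)
  i₂ pq := (-pq.1 + 1 :)
  i₃ r pq hr := (-pq.1 + r :)
  le₀₁ r pq hr := by simp; lia
  le₁₂ pq := by simp
  le₂₃ r pq hr := by simp; lia
  hc := by rintro r pq _ rfl _; dsimp; lia
  hc₀₂ := by rintro r pq hr rfl _; simp <;> lia +mbtc
  hc₁₃ := by rintro r pq hr rfl _; simp <;> lia +mbtc
  antitone_i₀ r r' pq hr hrr' := by simp; lia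
  monotone_i₃ r r' pq hr hrr' := by simp; lia
  i₀_prev := by
    rintro r r' hr pq rfl _ _
    dsimp
    lia +mbtc
  i₃_next := by
    rintro r r' hr pq rfl _ _
    dsimp
    lia +mbtc

variable {A : Type u} [Category.{v} A] [Abelian A]

instance (Y : Abelian.SpectralObject A EInt) : Y.HasSpectralSequence coreE₁ where
  isZero_H_obj_mk₁_i₀_le r r' pq hpq n hn hrr' hr := by
    exfalso
    exact hpq _ rfl
  isZero_H_obj_mk₁_i₃_le r r' pq hpq n hn hrr' hr := by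
    exfalso
    exact hpq (pq - (r, 1 - r)) (by simp)

instance : coreE₁.HasFirstPageComputation where
  hi₀₁ pq := by simp [coreE₁]
  hi₂₃ pq := by simp [coreE₁]

open GrothSS Abelian.SpectralObject

variable (Y : Abelian.SpectralObject A EInt)
  (hA : ∀ (n : ℤ) (i j : EInt) (h : i ≤ j), ((1 : ℤ) : EInt) ≤ i → IsZero ((Y.H n).obj (mk₁ (homOfLE h))))
  (hB : ∀ (n : ℤ) (i j : EInt) (h : i ≤ j), j ≤ ((-n : ℤ) : EInt) → IsZero ((Y.H n).obj (mk₁ (homOfLE h))))

include hA in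
lemma step_eq_top (n : ℤ) {j : EInt} (hj : ((1 : ℤ) : EInt) ≤ j) : step Y n j = ⊤ := by
  haveI : Epi (toTot Y n j) :=
    (Y.exact₂ (homOfLE (bot_le : ⊥ ≤ j)) (homOfLE (le_top : j ≤ ⊤)) _ rfl n).epi_f
      ((hA n _ _ le_top hj).eq_of_tgt _ _)
  haveI : Epi (step Y n j).arrow := epi_of_epi_fac (imageSubobject_arrow_comp (toTot Y n j))
  haveI : IsIso (step Y n j).arrow := isIso_of_mono_of_epi _
  exact Subobject.eq_top_of_isIso_arrow _

include hB in
lemma step_eq_bot (n : ℤ) {j : EInt} (hj : j ≤ ((-n : ℤ) : EInt)) : step Y n j = ⊥ := by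
  simp only [step, show toTot Y n j = 0 from (hB n _ _ bot_le hj).eq_of_src _ _, imageSubobject_zero]

include hA hB in
lemma nonempty_limit_iso (n₀ n n₂ : ℤ) (h₁ : n₀ + 1 = n) (h₂ : n + 1 = n₂) {i₀ j' j i₃ : EInt}
    (h₀ : i₀ ≤ j') (h : j' ≤ j) (h₃ : j ≤ i₃) (hi₀ : i₀ ≤ ((-n₂ : ℤ) : EInt)) (hi₃ : ((1 : ℤ) : EInt) ≤ i₃) :
    Nonempty (Y.E (homOfLE h₀) (homOfLE h) (homOfLE h₃) n₀ n n₂ h₁ h₂ ≅
      cokernel ((step Y n j').ofLE (step Y n j) (step_mono Y n h))) := by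
  obtain ⟨e⟩ := nonempty_E_iso_cokernel Y n₀ n n₂ h₁ h₂ h
  exact ⟨(Y.isoMapFourδ₁Toδ₀' ⊥ i₀ j' j i₃ bot_le h₀ h h₃ n₀ n n₂
      (hB _ _ _ _ hi₀) h₁ h₂).symm ≪≫
    Y.isoMapFourδ₄Toδ₃' ⊥ j' j i₃ ⊤ bot_le h h₃ le_top n₀ n n₂
      (hA _ _ _ le_top hi₃) h₁ h₂ ≪≫ e⟩

include hA hB in
lemma isZero_page_of_neg (r : ℤ) (hr : 1 ≤ r) (pq : ℤ × ℤ) (h : pq.1 < 0 ∨ pq.2 < 0) :
    IsZero (((Y.spectralSequence coreE₁).page r hr).X pq) := by
  apply isZero_spectralSequence_page_X_of_isZero_H' _ _ _ hr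
  rcases h with h | h
  · exact hA _ _ _ _ (by simp; lia)
  · exact hB _ _ _ _ (by simp; lia)

include hA hB in
/-- Convergent spectral sequence starting at the first page. -/
theorem exists_spectralSequence (H : ℤ → A)
    (e : ∀ n, Nonempty ((Y.H n).obj (mk₁ (homOfLE (bot_le : (⊥ : EInt) ≤ ⊤))) ≅ H n)) :
    ∃ (E : CohomologicalSpectralSequence A 1) (a : SpSeq.Abutment E H),
      (∀ n, a.IsFinite n) ∧ SpSeq.IsBounded E ∧
      (∀ p q : ℤ, (p < 0 ∨ q < 0) → IsZero ((E.page 1 le_rfl).X (p, q))) ∧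
      ∀ p q : ℤ, Nonempty ((E.page 1 le_rfl).X (p, q) ≅
        (Y.H (p + q)).obj (mk₁ (homOfLE (show ((-p : ℤ) : EInt) ≤ ((-p + 1 : ℤ) : EInt) by simp)))) := by
  let ee := fun n => (e n).some
  let G : ∀ n, ℤ → Subobject (H n) := fun n p =>
    (Subobject.map (ee n).hom).obj (step Y n ((-p + 1 : ℤ) : EInt))
  have hG : ∀ n, Antitone (G n) := fun n p p' h =>
    ((Subobject.map (ee n).hom).map (homOfLE (step_mono Y n (by simp; lia)))).le
  let rk : ℤ × ℤ → ℤ := fun pq => 3 + |pq.1| + |pq.2|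
  have hrk : ∀ pq : ℤ × ℤ, 1 ≤ rk pq := fun pq => by
    have := abs_nonneg pq.1; have := abs_nonneg pq.2; simp only [rk]; lia
  have hbd : ∀ pq : ℤ × ℤ, pq.1 + 2 < rk pq ∧ pq.2 + 2 < rk pq := fun pq => by
    have := le_abs_self pq.1; have := le_abs_self pq.2; have := abs_nonneg pq.1; have := abs_nonneg pq.2
    simp only [rk]; lia
  have hst : ∀ pq, SpSeq.StationaryAt (Y.spectralSequence coreE₁) pq (rk pq) := fun pq =>
    ⟨hrk pq, fun r hr hr' => ⟨(isZero_page_of_neg Y hA hB r hr _ (Or.inl (by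
        have := hbd pq; simp; lia))).eq_of_src _ _,
      (isZero_page_of_neg Y hA hB r hr _ (Or.inr (by have := hbd pq; simp; lia))).eq_of_tgt _ _⟩⟩
  have hβ : ∀ pq : ℤ × ℤ, Nonempty (((Y.spectralSequence coreE₁).page (rk pq) (hrk pq)).X pq ≅
      SpSeq.grPiece (G (pq.1 + pq.2)) (hG (pq.1 + pq.2)) pq.1) := fun pq => by
    obtain ⟨p, q⟩ := pq
    have hb := hbd (p, q)
    have h0 : 0 ≤ p + rk (p, q) - 1 := by
      have := neg_le_abs p; have := abs_nonneg q; simp only [rk]; lia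
    obtain ⟨l⟩ := nonempty_limit_iso Y hA hB (p + q - 1) (p + q) (p + q + 1) (by lia) rfl
      (i₀ := ((-p - rk (p, q) + 1 : ℤ) : EInt)) (j' := ((-(p + 1) + 1 : ℤ) : EInt))
      (j := ((-p + 1 : ℤ) : EInt)) (i₃ := ((-p + rk (p, q) : ℤ) : EInt))
      (by simp; have := hrk (p, q); lia) (by simp) (by simp; have := hrk (p, q); lia)
      (by simp; lia) (by simp; lia)
    exact ⟨Y.spectralSequencePageXIso _ (rk (p, q)) (hrk (p, q)) (p, q) _ _ _ _ (by simp) (by simp)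
      (by simp) (by simp) (p + q - 1) (p + q) (p + q + 1) (by simp) ≪≫ l ≪≫
      mapSubquotIso (ee (p + q)).hom _⟩
  refine ⟨Y.spectralSequence coreE₁, ⟨G, hG, rk, hst, fun pq => (hβ pq).some⟩, fun n => ?_, fun n => ?_,
    fun p q h => isZero_page_of_neg Y hA hB 1 le_rfl _ h, fun p q => ?_⟩
  · refine ⟨⟨0, ?_⟩, max 0 (n + 1), ?_⟩
    · show G n 0 = ⊤
      simp only [G]
      rw [step_eq_top Y hA n (by simp), Subobject.map_top]
      exact Subobject.mk_eq_top_of_isIso _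
    · show G n (max 0 (n + 1)) = ⊥
      simp only [G]
      rw [step_eq_bot Y hB n (by simp; lia), Subobject.map_bot]
  · refine (Set.finite_Icc 0 n).subset fun p hp => ?_
    by_contra hp'
    exact hp (isZero_page_of_neg Y hA hB 1 le_rfl _ (by simp only [Set.mem_Icc] at hp'; simp; lia))
  · exact ⟨Y.spectralSequenceFirstPageXIso _ (p, q) _ _ rfl rfl (p + q) rfl⟩

end Groth.Agent.ColSS
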