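import Groth.Agent.ColSS.Core
import Mathlib.Algebra.Homology.HomotopyCategory.ShortExact
import Mathlib.Algebra.Homology.HomotopyCategory.SpectralObject
import Mathlib.Algebra.Category.Grp.Abelian
import Mathlib.Algebra.Category.Grp.Zero
import Mathlib.Algebra.Homology.ShortComplex.Ab
import Mathlib.Algebra.Homology.Embedding.CochainComplex

/-! # The spectral sequence of the columns of a double complex of abelian groups -/

set_option autoImplicit false
set_option linter.style.haveILetI false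

noncomputable section

universe u

open CategoryTheory CategoryTheory.Limits ComposableArrows

namespace Groth.Agent.ColSS

/-- a double complex given by its columns, which live in non negative degrees -/
structure Cols where
  /-- the columns -/
  K : ℕ → CochainComplex AddCommGrpCat.{u} ℤ
  ge : ∀ p, CochainComplex.IsStrictlyGE (K p) 0
  /-- the horizontal differential -/
  dh : ∀ p, K p ⟶ K (p + 1)
  dh_dh : ∀ p, dh p ≫ dh (p + 1) = 0

namespace Cols

variable (C : Cols.{u})

/-- all families of elements -/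
abbrev Pre : Type u := ∀ (p : ℕ) (q : ℤ), (C.K p).X q

/-- horizontal part of the total differential -/
def hor (s : C.Pre) : C.Pre
  | 0, _ => 0
  | p + 1, q => (C.dh p).f q (s p q)

/-- vertical part of the total differential -/
def vert (s : C.Pre) : C.Pre := fun p q => (-(p : ℤ)).negOnePow • (C.K p).d (q - 1) q (s p (q - 1))

/-- the total differential -/
def D : C.Pre →+ C.Pre :=
  AddMonoidHom.mk' (fun s => C.hor s + C.vert s) fun a b => by
    funext p q
    rcases p with _ | p <;> simp [hor, vert] <;> abel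

lemma D_apply (s : C.Pre) : C.D s = C.hor s + C.vert s := rfl

lemma D_D (s : C.Pre) : C.D (C.D s) = 0 := by
  funext p q
  have hvv : ∀ p q, (C.K p).d (q - 1) q ((C.K p).d (q - 1 - 1) (q - 1) (s p (q - 1 - 1))) = 0 := fun p q =>
    ConcreteCategory.congr_hom ((C.K p).d_comp_d (q - 1 - 1) (q - 1) q) _
  rcases p with _ | p
  · simp [D_apply, hor, vert, hvv]
  · have hc : (C.K (p + 1)).d (q - 1) q ((C.dh p).f (q - 1) (s p (q - 1))) =
        (C.dh p).f q ((C.K p).d (q - 1) q (s p (q - 1))) :=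
      ConcreteCategory.congr_hom ((C.dh p).comm (q - 1) q) _
    have hsign : (-((p + 1 : ℕ) : ℤ)).negOnePow = -(-(p : ℤ)).negOnePow := by
      rw [Int.negOnePow_neg, Int.negOnePow_neg, Nat.cast_succ, Int.negOnePow_succ]
    rcases p with _ | p
    · simp [D_apply, hor, vert, hvv] at hc ⊢
      simp [hvv, hc]
    · have hhh : (C.dh (p + 1)).f q ((C.dh p).f q (s p q)) = 0 :=
        ConcreteCategory.congr_hom (congrArg (fun m => HomologicalComplex.Hom.f m q) (C.dh_dh p)) _
      simp only [D_apply, hor, vert, Pi.add_apply, Pi.zero_apply, map_add, map_zsmul, Units.smul_def, hvv, smul_zero,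
        add_zero, hhh, zero_add, hc, hsign, Units.val_neg, neg_smul, ← smul_add]
      abel_nf
      simp [map_zsmul, hvv]

/-- the degree `n` part of the `j`-th filtration step -/
def sub (j : EInt) (n : ℤ) : AddSubgroup C.Pre where
  carrier := {s | ∀ (p : ℕ) (q : ℤ), ((p : ℤ) + q ≠ n ∨ j ≤ ((-(p : ℤ) : ℤ) : EInt)) → s p q = 0}
  add_mem' ha hb p q h := by rw [Pi.add_apply, Pi.add_apply, ha p q h, hb p q h, add_zero]
  zero_mem' _ _ _ := rfl
  neg_mem' ha p q h := by rw [Pi.neg_apply, Pi.neg_apply, ha p q h, neg_zero]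

lemma D_mem {j : EInt} {n : ℤ} {s : C.Pre} (hs : s ∈ C.sub j n) : C.D s ∈ C.sub j (n + 1) := by
  intro p q h
  have hv : C.vert s p q = 0 := by
    simp only [vert, hs p (q - 1) (h.imp (fun h h' => h (by omega)) id), map_zero, smul_zero]
  rcases p with _ | p
  · simp [D_apply, hor, hv]
  · have h' : ((p : ℤ) + q ≠ n ∨ j ≤ ((-(p : ℤ) : ℤ) : EInt)) := h.imp (fun h h' => h (by push_cast; omega))
      (fun h => h.trans (by simp))
    simp [D_apply, hor, hv, hs p q h']

lemma sub_mono {i j : EInt} (h : i ≤ j) (n : ℤ) : C.sub i n ≤ C.sub j n :=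
  fun _ hs p q hpq => hs p q (hpq.imp id h.trans)

/-- the filtration steps as complexes -/
def fil (j : EInt) : CochainComplex AddCommGrpCat.{u} ℤ :=
  CochainComplex.of (fun n => AddCommGrpCat.of (C.sub j n))
    (fun n => AddCommGrpCat.ofHom (AddMonoidHom.mk' (fun s => ⟨C.D s.1, C.D_mem s.2⟩)
      fun a b => Subtype.ext (map_add C.D a.1 b.1)))
    fun n => by
      ext s : 2
      exact Subtype.ext (C.D_D s.1)

lemma fil_d (j : EInt) (n : ℤ) (s : (C.fil j).X n) :
    ((C.fil j).d n (n + 1) s : C.sub j (n + 1)).1 = C.D (Subtype.val s) := by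
  simp [fil]
  rfl

/-- the inclusions -/
def incl {i j : EInt} (h : i ≤ j) : C.fil i ⟶ C.fil j where
  f n := AddCommGrpCat.ofHom (AddSubgroup.inclusion (C.sub_mono h n))
  comm' n m hnm := by
    simp only [ComplexShape.up_Rel] at hnm
    subst hnm
    ext s : 2
    refine Subtype.ext ((C.fil_d j n _).trans ?_)
    exact (C.fil_d i n s).symm

/-- the filtration as a functor -/
def filF : EInt ⥤ CochainComplex AddCommGrpCat.{u} ℤ where
  obj := C.fil
  map f := C.incl f.le
  map_id _ := by ext n s; rfl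
  map_comp _ _ := by ext n s; rfl

instance mono_incl {i j : EInt} (h : i ≤ j) : Mono (C.incl h) := by
  haveI : ∀ n, Mono ((C.incl h).f n) := fun n =>
    (AddCommGrpCat.mono_iff_injective _).2 (AddSubgroup.inclusion_injective (C.sub_mono h n))
  exact HomologicalComplex.mono_of_mono_f _ this

/-- the total complex -/
abbrev tot : CochainComplex AddCommGrpCat.{u} ℤ := C.fil ⊤

lemma eq_zero_of_neg (s : C.Pre) (p : ℕ) {q : ℤ} (hq : q < 0) : s p q = 0 :=
  haveI := C.ge p
  @Subsingleton.elim _ (AddCommGrpCat.subsingleton_of_isZero ((C.K p).isZero_of_isStrictlyGE 0 q hq)) _ _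

/-- the spectral object -/
def spObj : Abelian.SpectralObject AddCommGrpCat.{u} EInt :=
  GrothSS.ofHomological ((HomotopyCategory.spectralObjectMappingCone AddCommGrpCat.{u}).precomp C.filF)
    (HomotopyCategory.homologyFunctor AddCommGrpCat.{u} (ComplexShape.up ℤ) 0)

theorem nonempty_spObj_iso {i j : EInt} (h : i ≤ j) (n : ℤ) (S : ShortComplex (CochainComplex AddCommGrpCat.{u} ℤ))
    (hS : S.ShortExact) (e₁ : S.X₁ ≅ C.fil i) (e₂ : S.X₂ ≅ C.fil j) (he : S.f ≫ e₂.hom = e₁.hom ≫ C.incl h) :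
    Nonempty ((C.spObj.H n).obj (mk₁ (homOfLE h)) ≅ S.X₃.homology n) := by
  haveI := CochainComplex.mappingCone.quasiIso_descShortComplex hS
  have he' : C.incl h ≫ e₂.inv = e₁.inv ≫ S.f := by
    rw [Iso.eq_inv_comp, ← Category.assoc, ← he, Category.assoc, Iso.hom_inv_id, Category.comp_id]
  let e : CochainComplex.mappingCone (C.incl h) ≅ CochainComplex.mappingCone S.f :=
    { hom := CochainComplex.mappingCone.map _ _ e₁.inv e₂.inv he'
      inv := CochainComplex.mappingCone.map _ _ e₁.hom e₂.hom he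
      hom_inv_id := by rw [← CochainComplex.mappingCone.map_comp]; simp [CochainComplex.mappingCone.map_id]
      inv_hom_id := by rw [← CochainComplex.mappingCone.map_comp]; simp [CochainComplex.mappingCone.map_id] }
  exact ⟨(HomotopyCategory.homologyFunctorFactors AddCommGrpCat.{u} (ComplexShape.up ℤ) n).app _ ≪≫
    HomologicalComplex.homologyMapIso e n ≪≫
    isoOfQuasiIsoAt (CochainComplex.mappingCone.descShortComplex S) n⟩

lemma isZero_spObj {i j : EInt} (h : i ≤ j) (n : ℤ) (hz : Epi ((C.incl h).f n)) :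
    IsZero ((C.spObj.H n).obj (mk₁ (homOfLE h))) := by
  let S := ShortComplex.mk (C.incl h) (cokernel.π (C.incl h)) (cokernel.condition _)
  have hS : S.ShortExact :=
    { exact := ShortComplex.exact_of_g_is_cokernel _ (cokernelIsCokernel _) }
  obtain ⟨e⟩ := C.nonempty_spObj_iso h n S hS (Iso.refl _) (Iso.refl _) (by simp [S])
  refine IsZero.of_iso ?_ e
  have hX : IsZero (S.X₃.X n) := by
    rw [IsZero.iff_id_eq_zero]
    haveI : Epi ((cokernel.π (C.incl h)).f n) := inferInstance
    rw [← cancel_epi ((cokernel.π (C.incl h)).f n), ← cancel_epi ((C.incl h).f n), comp_zero, comp_zero,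
      Category.comp_id, ← HomologicalComplex.comp_f, cokernel.condition]
    rfl
  exact (ShortComplex.exact_iff_isZero_homology _).1 (ShortComplex.exact_of_isZero_X₂ (S.X₃.sc n) hX)

/-- the projection onto a column -/
def proj (p : ℕ) : C.fil ((-(p : ℤ) + 1 : ℤ) : EInt) ⟶ (C.K p)⟦(-(p : ℤ))⟧ where
  f n := AddCommGrpCat.ofHom
    (AddMonoidHom.mk' (fun s => (Subtype.val s) p (n + -(p : ℤ))) fun _ _ => rfl)
  comm' n m hnm := by
    simp only [ComplexShape.up_Rel] at hnm
    subst hnm
    ext s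
    show (-(p : ℤ)).negOnePow • (C.K p).d (n + -(p : ℤ)) (n + 1 + -(p : ℤ)) (Subtype.val s p (n + -(p : ℤ))) = _
    refine Eq.trans ?_ (congrFun (congrFun (C.fil_d _ n s).symm p) (n + 1 + -(p : ℤ)))
    rw [D_apply]
    have hh : C.hor (Subtype.val s) p (n + 1 + -(p : ℤ)) = 0 := by
      rcases p with _ | p
      · rfl
      · show (C.dh p).f _ ((Subtype.val s) p _) = 0
        rw [(Subtype.property s) p _ (Or.inr (by simp)), map_zero]
    rw [Pi.add_apply, Pi.add_apply, hh, zero_add, vert, show n + 1 + -(p : ℤ) - 1 = n + -(p : ℤ) by omega]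

lemma shortExact_proj (p : ℕ) (h : ((-(p : ℤ) : ℤ) : EInt) ≤ ((-(p : ℤ) + 1 : ℤ) : EInt))
    (w : C.incl h ≫ C.proj p = 0) : (ShortComplex.mk (C.incl h) (C.proj p) w).ShortExact := by
  refine { exact := ?_, mono_f := C.mono_incl h, epi_g := ?_ }
  · rw [HomologicalComplex.exact_iff_degreewise_exact]
    intro n
    refine (ShortComplex.ab_exact_iff _).2 fun s hs => ⟨⟨Subtype.val s, fun p' q' h' => ?_⟩, rfl⟩
    rcases h' with h' | h'
    · exact Subtype.property s p' q' (Or.inl h')
    · by_cases hp : p' = p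
      · subst hp
        by_cases hq : (p' : ℤ) + q' = n
        · obtain rfl : q' = n + -(p' : ℤ) := by omega
          exact hs
        · exact Subtype.property s p' q' (Or.inl hq)
      · exact Subtype.property s p' q' (Or.inr (by simp at h' ⊢; omega))
  · haveI : ∀ n, Epi ((C.proj p).f n) := fun n => (AddCommGrpCat.epi_iff_surjective _).2 fun x => by
      classical
      refine ⟨⟨fun p' q' => if hh : p' = p ∧ q' = n + -(p : ℤ) then
        (congrArg₂ (fun a b => ((C.K a).X b : Type u)) hh.1 hh.2).mpr x else 0, fun p' q' h' => ?_⟩, ?_⟩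
      · refine dif_neg ?_
        rintro ⟨rfl, rfl⟩
        rcases h' with h' | h'
        · exact h' (by omega)
        · simp at h'
      · show dite (p = p ∧ n + -(p : ℤ) = n + -(p : ℤ)) _ _ = x
        rw [dif_pos ⟨rfl, rfl⟩]
        rfl
    exact HomologicalComplex.epi_of_epi_f _ this

/-- The spectral sequence of the columns. -/
theorem exists_spectralSequence (H : ℤ → AddCommGrpCat.{u}) (e : ∀ n, Nonempty (C.tot.homology n ≅ H n))
    (P : ℕ → ℕ → AddCommGrpCat.{u}) (hP : ∀ p q : ℕ, Nonempty ((C.K p).homology (q : ℤ) ≅ P p q))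
    (Z : AddCommGrpCat.{u}) (hZ : IsZero Z) :
    ∃ (E : CohomologicalSpectralSequence AddCommGrpCat.{u} 1) (a : SpSeq.Abutment E H),
      (∀ n, a.IsFinite n) ∧ SpSeq.IsBounded E ∧
      ∀ p q : ℤ, Nonempty ((E.page 1 le_rfl).X (p, q) ≅
        (if 0 ≤ p ∧ 0 ≤ q then P p.toNat q.toNat else Z)) := by
  have hA : ∀ (n : ℤ) (i j : EInt) (h : i ≤ j), ((1 : ℤ) : EInt) ≤ i →
      IsZero ((C.spObj.H n).obj (mk₁ (homOfLE h))) := fun n i j h hi => by
    refine C.isZero_spObj h n ((AddCommGrpCat.epi_iff_surjective _).2 fun s => ⟨⟨Subtype.val s, fun p q hpq => ?_⟩, rfl⟩)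
    rcases hpq with hpq | hpq
    · exact Subtype.property s p q (Or.inl hpq)
    · exact absurd (hi.trans hpq) (by simp; omega)
  have hB : ∀ (n : ℤ) (i j : EInt) (h : i ≤ j), j ≤ ((-n : ℤ) : EInt) →
      IsZero ((C.spObj.H n).obj (mk₁ (homOfLE h))) := fun n i j h hj => by
    refine C.isZero_spObj h n ((AddCommGrpCat.epi_iff_surjective _).2 fun s => ⟨0, ?_⟩)
    rw [map_zero]
    refine Subtype.ext (funext fun p => funext fun q => ?_)
    by_cases hq : q < 0
    · exact (C.eq_zero_of_neg _ p hq).symm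
    · by_cases hpq : (p : ℤ) + q = n
      · exact (Subtype.property s p q (Or.inr (hj.trans (by simp; omega)))).symm
      · exact (Subtype.property s p q (Or.inl hpq)).symm
  have hH : ∀ n, Nonempty ((C.spObj.H n).obj (mk₁ (homOfLE (bot_le : (⊥ : EInt) ≤ ⊤))) ≅ H n) := fun n => by
    have h : (⊥ : EInt) ≤ ⊤ := bot_le
    let S := ShortComplex.mk (C.incl h) (cokernel.π (C.incl h)) (cokernel.condition _)
    have hS : S.ShortExact :=
      { exact := ShortComplex.exact_of_g_is_cokernel _ (cokernelIsCokernel _) }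
    obtain ⟨e₁⟩ := C.nonempty_spObj_iso h n S hS (Iso.refl _) (Iso.refl _) (by simp [S])
    have h0 : C.incl h = 0 := by
      ext m s
      refine Subtype.ext ?_
      exact funext fun p => funext fun q => Subtype.property s p q (Or.inr bot_le)
    exact ⟨e₁ ≪≫ HomologicalComplex.homologyMapIso (cokernelIsoOfEq h0 ≪≫ cokernelZeroIsoTarget) n ≪≫ (e n).some⟩
  obtain ⟨E, a, ha, hb, hz, hE⟩ := ColSS.exists_spectralSequence C.spObj hA hB H hH
  refine ⟨E, a, ha, hb, fun p q => ?_⟩
  by_cases hpq : 0 ≤ p ∧ 0 ≤ q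
  · rw [if_pos hpq]
    obtain ⟨p, rfl⟩ := Int.eq_ofNat_of_zero_le hpq.1
    obtain ⟨q, rfl⟩ := Int.eq_ofNat_of_zero_le hpq.2
    have h : ((-(p : ℤ) : ℤ) : EInt) ≤ ((-(p : ℤ) + 1 : ℤ) : EInt) := by simp
    have w : C.incl h ≫ C.proj p = 0 := by
      ext n s
      exact Subtype.property s p _ (Or.inr le_rfl)
    obtain ⟨e₁⟩ := C.nonempty_spObj_iso h ((p : ℤ) + q) _ (C.shortExact_proj p h w) (Iso.refl _) (Iso.refl _) (by simp)
    exact ⟨(hE p q).some ≪≫ e₁ ≪≫
      ((CochainComplex.ShiftSequence.shiftIso AddCommGrpCat.{u} (-(p : ℤ)) ((p : ℤ) + q) q (by omega)).app (C.K p)) ≪≫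
      (hP p q).some⟩
  · rw [if_neg hpq]
    exact ⟨IsZero.iso (hz p q (by omega)) hZ⟩

end Cols

end Groth.Agent.ColSS
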